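import Groth.Agent.S17660
import Groth.Agent.S18350
import Groth.Agent.S18344
import Groth.Agent.S1656
import Groth.Agent.GenusOneSSLib.Basic
import Groth.Agent.GenusZeroLib.PSpace
import Groth.Agent.PicPnLib.UFD
import Groth.Agent.CycKSuppLib.Killed
import Groth.Agent.CohCmpLib.UnitFibre
import Groth.Agent.CohCmpLib.RankOne
import Groth.Agent.BlowRegLib.PosA
import Groth.Agent.BlowRegLib.LinearGG
import Groth.Agent.NodalLib.DefAmple
import Groth.Agent.DegPullLib.H0
import Groth.Agent.FieldDualLib.Basic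
import Groth.Agent.HilbPolyLib.Twist
import Mathlib.CategoryTheory.Adjunction.FullyFaithful

/-!
# Dualizing modules of ribbons on the projective line
-/

set_option autoImplicit false
set_option linter.style.haveILetI false
set_option linter.unusedSectionVars false
set_option backward.isDefEq.respectTransparency false
set_option backward.isDefEq.respectTransparency.types false
set_option maxHeartbeats 1000000
set_option synthInstance.maxHeartbeats 400000

universe u

open CategoryTheory CategoryTheory.Limits AlgebraicGeometry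

attribute [local instance] HasDerivedCategory.standard

noncomputable section

namespace RibbonDualLib

variable (k : Type u) [Field k]

instance pLineOver : (CohB1.ProjSpace 1 k).Over (Spec (CommRingCat.of k)) := ⟨CohB1.ProjSpace.toSpec 1 k⟩

instance pLineProper : IsProper ((CohB1.ProjSpace 1 k) ↘ Spec (CommRingCat.of k)) := FibVALib.isProper_toSpec 1 k

theorem pLine_dim : topologicalKrullDim ↥(CohB1.ProjSpace 1 k) = 1 := by
  simpa using GenusZeroLib.dim_projSpace k 1

theorem h0_twist_of_neg (m : ℤ) (hm : m < 0) :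
    Module.finrank k (Coh.HH (CohB1.ProjSpace 1 k) (Twist.twistProjSpace 1 k m) 0) = 0 :=
  haveI := PnCohLib.subsingleton_HH_twist (n := 1) (R := k) m 0 (by omega) (by omega)
  Module.finrank_zero_of_subsingleton

theorem h0_twist (m : ℤ) (hm : -1 ≤ m) :
    (Module.finrank k (Coh.HH (CohB1.ProjSpace 1 k) (Twist.twistProjSpace 1 k m) 0) : ℤ) = m + 1 := by
  rw [← Groth.Agent.S17660.euler_line k m]
  exact (CurvLib.euler_eq_finrank fun q hq =>
    PnCohLib.subsingleton_HH_twist (n := 1) (R := k) m q (by omega) (by omega)).symm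

/-- A nonzero map between twists of the same degree is invertible. -/
theorem isIso_of_twist {A B : (CohB1.ProjSpace 1 k).Modules} {m : ℤ} (eA : A ≅ Twist.twistProjSpace 1 k m)
    (eB : B ≅ Twist.twistProjSpace 1 k m) {φ : A ⟶ B} (h : φ ≠ 0) : IsIso φ := by
  haveI := GenusZeroLib.isIntegral_projSpace k 1
  have hi := PicPnLib.twist_inv 1 k m
  exact CurvLib.isIso_of_euler_le (k := k) (HilbPolyLib.isInvertible_of_iso eA.symm hi)
    (HilbPolyLib.isInvertible_of_iso eB.symm hi) (pLine_dim k) h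
    (((CurvLib.euler_congr (k := k) eB).trans (CurvLib.euler_congr (k := k) eA).symm).le)

/-- There are no nonzero maps towards a twist of smaller degree. -/
theorem eq_zero_of_twist {A B : (CohB1.ProjSpace 1 k).Modules} {a b : ℤ} (eA : A ≅ Twist.twistProjSpace 1 k a)
    (eB : B ≅ Twist.twistProjSpace 1 k b) (hab : b < a) (φ : A ⟶ B) : φ = 0 := by
  haveI := GenusZeroLib.isIntegral_projSpace k 1
  by_contra h
  have := CurvLib.euler_le (k := k) (HilbPolyLib.isInvertible_of_iso eA.symm (PicPnLib.twist_inv 1 k a))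
    (HilbPolyLib.isInvertible_of_iso eB.symm (PicPnLib.twist_inv 1 k b)) (pLine_dim k) h
  rw [CurvLib.euler_congr (k := k) eA, CurvLib.euler_congr (k := k) eB, Groth.Agent.S17660.euler_line,
    Groth.Agent.S17660.euler_line] at this
  omega

theorem gg_twist (d : ℕ) : Curv2.IsGloballyGenerated (Twist.twistProjSpace 1 k (d : ℤ)) := by
  induction d with
  | zero => exact MiscFlat6.isGloballyGenerated_of_iso (PicPnLib.twist_zero 1 k).some.symm NodalLib.gg_unit
  | succ d ih =>
    obtain ⟨e⟩ := PicPnLib.twist_add 1 k (d : ℤ) 1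
    refine MiscFlat6.isGloballyGenerated_of_iso (e ≪≫ eqToIso (by push_cast; rfl)) (BlowRegLib.gg_tensor' ih ?_)
    refine MiscFlat6.isGloballyGenerated_of_genSections (PicPnLib.twist_inv 1 k 1) fun x => ?_
    obtain ⟨σ, -, hσ⟩ := Groth.Agent.KoszOrthLib.exists_genAt_coordSec (n := 1) (R := k) x
    exact ⟨σ, hσ⟩

variable {k} {C : Scheme.{u}} [C.Over (Spec (CommRingCat.of k))] [IsProper (C ↘ Spec (CommRingCat.of k))]

/-- The data of a ribbon on the line, read through the parametrisation. -/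
structure Rib (j : CohB1.ProjSpace 1 k ⟶ C) (g : ℕ) : Prop where
  imm : IsClosedImmersion j
  hov : j ≫ (C ↘ Spec (CommRingCat.of k)) = CohB1.ProjSpace.toSpec 1 k
  sq : j.ker ^ 2 = ⊥
  con : Nonempty ((Scheme.Modules.pullback j).obj (ClSub.idealMod j.ker) ≅
    Twist.twistProjSpace 1 k (-((g : ℤ) + 1)))
  cm : ∀ x : C, LocCoh.IsCohenMacaulayLocalRing (C.presheaf.stalk x)
  surj : Function.Surjective j.base
  dim : topologicalKrullDim C = 1
  equi : ∀ Z ∈ irreducibleComponents (C : Type u), topologicalKrullDim Z = 1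

theorem exists_rib {I : C.IdealSheafData} (hI : I ^ 2 = ⊥) (e : I.subscheme ≅ CohB1.ProjSpace 1 k)
    (he : e.hom ≫ CohB1.ProjSpace.toSpec 1 k = I.subschemeι ≫ (C ↘ (Spec (CommRingCat.of k)))) (g : ℕ)
    (hconormal : Nonempty ((Scheme.Modules.pullback I.subschemeι).obj (ClSub.idealMod I) ≅
      (Scheme.Modules.pullback e.hom).obj (Twist.twistProjSpace 1 k (-((g : ℤ) + 1))))) :
    Rib (e.inv ≫ I.subschemeι) g := by
  obtain ⟨econ⟩ := hconormal
  have hker : (e.inv ≫ I.subschemeι).ker = I := by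
    refine le_antisymm ?_ ?_
    · intro U x hx
      rw [← I.ker_subschemeι, Scheme.Hom.ker_apply, RingHom.mem_ker]
      rw [Scheme.Hom.ker_apply, RingHom.mem_ker, Scheme.Hom.comp_app, CommRingCat.comp_apply] at hx
      exact (ConcreteCategory.bijective_of_isIso (e.inv.app _)).1 (hx.trans (map_zero _).symm)
    · exact I.ker_subschemeι.symm.le.trans (Scheme.Hom.le_ker_comp _ _)
  haveI := GenusZeroLib.isIntegral_projSpace k 1
  haveI : Nonempty I.subscheme := ⟨e.inv (GenusZeroLib.genPt k 1)⟩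
  haveI : IsIntegral I.subscheme := isIntegral_of_isOpenImmersion e.hom
  have hd : topologicalKrullDim I.subscheme = 1 :=
    (IsHomeomorph.topologicalKrullDim_eq _ (Scheme.homeoOfIso e).isHomeomorph).trans (pLine_dim k)
  have hth : MultCurve.IsPrimThick I.subschemeι 2 := by
    refine ⟨inferInstance, by rw [I.ker_subschemeι]; exact hI, ?_⟩
    rw [I.ker_subschemeι]
    refine (Groth.Agent.S18344.result C I hI).2 (HilbPolyLib.isInvertible_of_iso ?_
      (AmpleDevLib.isInvertible_pb e.hom (PicPnLib.twist_inv 1 k (-((g : ℤ) + 1)))))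
    exact econ.symm ≪≫ eqToIso (by unfold Omega.conormal; rw [I.ker_subschemeι])
  haveI := CurvLib.isNoetherian k (X := C)
  have hsurjι := Groth.Agent.S18350.surjective_of_pow (i := I.subschemeι) (n := 2) (by omega) hth.2.1
  have hdim : topologicalKrullDim C = 1 :=
    (IsHomeomorph.topologicalKrullDim_eq _
      (isHomeomorph_iff_isEmbedding_surjective.2 ⟨I.subschemeι.isClosedEmbedding.isEmbedding, hsurjι⟩)).symm.trans hd
  haveI : IrreducibleSpace C := hsurjι.irreducibleSpace I.subschemeι.continuous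
  obtain ⟨z1⟩ := Groth.Agent.S17660.invPullIso e (Twist.twistProjSpace 1 k (-((g : ℤ) + 1)))
  refine ⟨inferInstance, by rw [Category.assoc, ← he, Iso.inv_hom_id_assoc], hker.symm ▸ hI, ⟨?_⟩,
    Groth.Agent.S18350.isCM_of_primitive hd hdim (by omega) hth, ?_, hdim, fun Z hZ => ?_⟩
  · rw [hker]
    exact ((Scheme.Modules.pullbackComp e.inv I.subschemeι).app (ClSub.idealMod I)).symm ≪≫
      (Scheme.Modules.pullback e.inv).mapIso econ ≪≫ z1
  · intro x
    obtain ⟨d, rfl⟩ := hsurjι x
    exact ⟨e.hom d, congrArg I.subschemeι.base (Iso.hom_inv_id_apply (Scheme.forgetToTop.mapIso e) d)⟩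
  · rw [irreducibleComponents_eq_singleton, Set.mem_singleton_iff] at hZ
    rw [hZ, (Homeomorph.Set.univ C).isHomeomorph.topologicalKrullDim_eq]
    exact hdim

variable {j : CohB1.ProjSpace 1 k ⟶ C} {g : ℕ}

theorem h_vanish (hj : Rib j g) (M : C.Modules) (n : ℕ) (hn : 2 ≤ n) : Subsingleton (Coh.HH C M n) :=
  haveI := CurvLib.isNoetherian k (X := C)
  CurvLib.subsingleton_HH_of_dim_le M (d := 1) hj.dim.le n (by omega)

theorem euler_rib (hj : Rib j g) (M : C.Modules) : Curv2.euler k C M =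
    (Module.finrank k (Coh.HH C M 0) : ℤ) - (Module.finrank k (Coh.HH C M 1) : ℤ) :=
  CurvLib.euler_eq_sub fun n hn => h_vanish hj M n hn

/-- The restriction sequence of an invertible module. -/
theorem exists_seq (hj : Rib j g) {L : C.Modules} (hL : PicF.IsInvertible L) {n : ℤ}
    (en : (Scheme.Modules.pullback j).obj L ≅ Twist.twistProjSpace 1 k n) :
    ∃ (S : ShortComplex C.Modules), S.ShortExact ∧
      Nonempty (S.X₁ ≅ (Coh.push j).obj (Twist.twistProjSpace 1 k (n - ((g : ℤ) + 1)))) ∧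
      Nonempty (S.X₂ ≅ L) ∧ Nonempty (S.X₃ ≅ (Coh.push j).obj (Twist.twistProjSpace 1 k n)) ∧
      IsIso ((Scheme.Modules.pullback j).map S.g) := by
  haveI := hj.imm
  obtain ⟨ec⟩ := hj.con
  obtain ⟨eI⟩ := Groth.Agent.S17660.idealIso j hj.sq ec
  obtain ⟨eq⟩ := SurfNumLib.quotMod_ker_iso j
  obtain ⟨ea⟩ := Groth.Agent.S17660.tensorTwist en (-((g : ℤ) + 1))
  obtain ⟨u1⟩ := Groth.Agent.S17660.unitIso ((Scheme.Modules.pullback j).obj L)
  obtain ⟨p1⟩ := Groth.Agent.S17660.projLine j hL eI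
  obtain ⟨p3⟩ := Groth.Agent.S17660.projLine j hL eq
  obtain ⟨eL⟩ := Groth.Agent.S17660.unitIso L
  have hs := CurvLib.shortExact_tensor_locFree (CurvLib.locFree_of_isInvertible hL) (CurvLib.idealSeq_shortExact j.ker)
  let S := (CurvLib.idealSeq j.ker).map (CurvLib.tensorLeft' L)
  refine ⟨S, hs, ⟨p1 ≪≫ (Coh.push j).mapIso (ea ≪≫ eqToIso (by rw [← sub_eq_add_neg]))⟩, ⟨eL⟩,
    ⟨p3 ≪≫ (Coh.push j).mapIso (u1 ≪≫ en)⟩, ?_⟩
  haveI : Epi S.g := hs.epi_g
  haveI : (Scheme.Modules.pullback j).IsLeftAdjoint := ⟨_, ⟨Scheme.Modules.pullbackPushforwardAdjunction j⟩⟩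
  have hi := PicPnLib.twist_inv 1 k n
  exact CohCmpLib.isIso_of_epi_rank_one
    ((CohCmpLib.invertible_iff_rank_one _).1
      (HilbPolyLib.isInvertible_of_iso ((Scheme.Modules.pullback j).mapIso eL ≪≫ en).symm hi))
    ((CohCmpLib.invertible_iff_rank_one _).1
      (HilbPolyLib.isInvertible_of_iso ((Scheme.Modules.pullback j).mapIso (p3 ≪≫ (Coh.push j).mapIso (u1 ≪≫ en)) ≪≫
        CycKSuppLib.pullPushIso j _).symm hi))
    ((Scheme.Modules.pullback j).map S.g)

theorem hh_push (hj : Rib j g) {G : C.Modules} {m : ℤ} (e : G ≅ (Coh.push j).obj (Twist.twistProjSpace 1 k m))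
    (p : ℕ) : Module.finrank k (Coh.HH C G p) =
      Module.finrank k (Coh.HH (CohB1.ProjSpace 1 k) (Twist.twistProjSpace 1 k m) p) := by
  haveI := hj.imm
  haveI : Coh.IsQCoh (Twist.twistProjSpace 1 k m) :=
    (CurvLib.isCoh_of_isInvertible (PicPnLib.twist_inv 1 k m)).1
  rw [(CurvLib.hIso (k := k) e p).finrank_eq]
  exact ((PushLinLib.euler_push k j hj.hov _).1 p).symm

theorem isCoh_push (hj : Rib j g) (m : ℤ) : Coh.IsCoh ((Coh.push j).obj (Twist.twistProjSpace 1 k m)) :=
  haveI := hj.imm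
  (Groth.Agent.S17660.push_data k C j hj.hov (Iso.refl (Twist.twistProjSpace 1 k m)) (Iso.refl _)).1

/-- The structure sheaf. -/
theorem structure_data (hj : Rib j g) : Curv2.euler k C (Coh.structureModule C) = 1 - (g : ℤ) ∧
    Module.finrank k (Coh.HH C (Coh.structureModule C) 0) = 1 := by
  haveI := hj.imm
  haveI := CurvLib.isNoetherian k (X := C)
  have hO := CurvLib.isInvertible_structureModule (X := C)
  obtain ⟨e0⟩ := PicPnLib.twist_zero 1 k
  obtain ⟨S, hS, ⟨e₁⟩, ⟨e₂⟩, ⟨e₃⟩, -⟩ := exists_seq hj hO (n := 0) (KFlatLib.pullUnitIso j ≪≫ e0.symm)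
  have h2 := CurvLib.isCoh_of_isInvertible (HilbPolyLib.isInvertible_of_iso e₂.symm hO)
  have h1 := QCohLib.isCoh_of_iso e₁.symm (isCoh_push hj _)
  have h3 := QCohLib.isCoh_of_iso e₃.symm (isCoh_push hj _)
  have d1 := Groth.Agent.S17660.push_data k C j hj.hov (Iso.refl (Twist.twistProjSpace 1 k (0 - ((g : ℤ) + 1)))) e₁
  have d3 := Groth.Agent.S17660.push_data k C j hj.hov (Iso.refl (Twist.twistProjSpace 1 k 0)) e₃
  refine ⟨?_, le_antisymm ?_ ?_⟩
  · rw [← CurvLib.euler_congr (k := k) e₂, CurvLib.euler_add_of_isCoh (k := k) hS h1 h2 h3, d1.2, d3.2]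
    ring
  · haveI := CurvLib.finite_HH (k := k) h3 0
    have hi : Function.Injective (CurvLib.hMap (k := k) S.g 0) := by
      rw [← LinearMap.ker_eq_bot, ← CurvLib.exact₂ hS, LinearMap.range_eq_bot]
      haveI := CurvLib.finite_HH (k := k) h1 0
      haveI : Subsingleton (Coh.HH C S.X₁ 0) := (Module.finrank_zero_iff (R := k)).mp
        ((hh_push hj e₁ 0).trans (h0_twist_of_neg k _ (by omega)))
      exact LinearMap.ext fun x => by rw [Subsingleton.elim x 0, map_zero, LinearMap.zero_apply]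
    have h := LinearMap.finrank_le_finrank_of_injective hi
    rw [(CurvLib.hIso (k := k) e₂ 0).finrank_eq, hh_push hj e₃ 0] at h
    have := h0_twist k 0 (by omega)
    omega
  · haveI := CurvLib.finite_HH (k := k) (CurvLib.isCoh_of_isInvertible hO) 0
    haveI : Nonempty C := ⟨j (GenusZeroLib.genPt k 1)⟩
    rw [← GenusOneSSLib.finrank_hom]
    haveI : Module.Finite k (Coh.structureModule C ⟶ Coh.structureModule C) :=
      Module.Finite.equiv (GenusOneSSLib.homEquiv (k := k) _).symm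
    haveI : Nontrivial (Coh.structureModule C ⟶ Coh.structureModule C) := ⟨⟨𝟙 _, 0, fun h => by
      obtain ⟨U, hU, hx⟩ := QCohLib.exists_affine_nhd (Classical.arbitrary C)
      have h1 := congrArg (fun φ : Coh.structureModule C ⟶ Coh.structureModule C => φ.app U (1 : Γ(C, U))) h
      haveI : Nonempty U := ⟨⟨_, hx⟩⟩
      exact one_ne_zero (α := Γ(C, U)) h1⟩⟩
    exact Module.finrank_pos

variable [DCoh.HasRpush (C ↘ (Spec (CommRingCat.of k)))] (h : DCoh.RpushPreservesQCoh (C ↘ (Spec (CommRingCat.of k))))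
  [DCoh.HasShriek (C ↘ (Spec (CommRingCat.of k))) h] (OY : DCoh.DQCoh (Spec (CommRingCat.of k)))

local notation "ω" => DCoh.dualizingMod (C ↘ (Spec (CommRingCat.of k))) h OY 1

/-- Duality. -/
theorem h1_eq_hom (hj : Rib j g)
    (hOY : Nonempty (OY.obj ≅ DCoh.inD (Spec (CommRingCat.of k)) (Coh.structureModule (Spec (CommRingCat.of k)))))
    (G : C.Modules) (hG : Coh.IsCoh G) :
    Module.finrank k (Coh.HH C G 1) = Module.finrank k (G ⟶ ω) := by
  haveI := CurvLib.isNoetherian k (X := C)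
  obtain ⟨eO⟩ := hOY
  obtain ⟨-, t, ht⟩ := Groth.Agent.FieldDualLib.exists_duality (k := k) hj.cm 1
    hj.equi hj.dim h _ (DCoh.shriekAdj (C ↘ Spec (CommRingCat.of k)) h) OY eO
  let e₀ : (G ⟶ ω) ≃ₗ[k] (CurveDualModLib.inH G ⟶ CurveDualModLib.inH ω) :=
    LinearEquiv.ofBijective ((DerivedCategory.singleFunctor C.Modules 0).mapLinearMap k)
      ⟨(DerivedCategory.singleFunctor C.Modules 0).map_injective,
        (DerivedCategory.singleFunctor C.Modules 0).map_surjective⟩
  let e₁ := (Linear.homCongr k (Iso.refl (CurveDualModLib.inH G)) (CurveDualModLib.zH ω).symm).trans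
    (LinearEquiv.ofBijective _ (ht G hG.1 0 ((1 : ℕ) : ℤ) (zero_add _)))
  let e₂ := (e₀.trans e₁).trans (Groth.Agent.FieldDualLib.homEquivHH (k := k) G 1).symm.dualMap
  rw [e₂.finrank_eq, Subspace.dual_finrank_eq]

/-- The restriction of the dualizing module to the line has degree `g - 1`. -/
theorem restrict_dualizing (hj : Rib j g)
    (hOY : Nonempty (OY.obj ≅ DCoh.inD (Spec (CommRingCat.of k)) (Coh.structureModule (Spec (CommRingCat.of k)))))
    (hω : PicF.IsInvertible ω) :
    Nonempty ((Scheme.Modules.pullback j).obj ω ≅ Twist.twistProjSpace 1 k ((g : ℤ) - 1)) := by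
  haveI := hj.imm
  obtain ⟨n, ⟨en⟩⟩ := PicPnLib.exists_twist 1 k (AmpleDevLib.isInvertible_pb j hω)
  obtain ⟨ec⟩ := hj.con
  have h2 := Groth.Agent.S17660.deg_eq k C j hj.hov hj.sq _ ec ω hω n en
  rw [Curv2.deg] at h2
  have h3 := Groth.Agent.S1656.result k C hj.cm hj.equi h OY hOY
  have h4 := (structure_data hj).1
  have hn : n = (g : ℤ) - 1 := by push_cast at h2; omega
  exact ⟨en ≪≫ eqToIso (by rw [hn])⟩

/-- The dualizing module is generated by its sections. -/
theorem gg_dualizing (hj : Rib j g)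
    (hOY : Nonempty (OY.obj ≅ DCoh.inD (Spec (CommRingCat.of k)) (Coh.structureModule (Spec (CommRingCat.of k)))))
    (hω : PicF.IsInvertible ω) (hg : 1 ≤ g) : Curv2.IsGloballyGenerated ω := by
  haveI := hj.imm
  haveI := CurvLib.isNoetherian k (X := C)
  obtain ⟨en⟩ := restrict_dualizing h OY hj hOY hω
  obtain ⟨S, hS, ⟨e₁⟩, ⟨e₂⟩, ⟨e₃⟩, hiso⟩ := exists_seq hj hω en
  haveI := hiso
  have h1 := QCohLib.isCoh_of_iso e₁.symm (isCoh_push hj _)
  have h3 := QCohLib.isCoh_of_iso e₃.symm (isCoh_push hj _)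
  have hωc := CurvLib.isCoh_of_isInvertible hω
  have h2 := QCohLib.isCoh_of_iso e₂.symm hωc
  have hO := CurvLib.isCoh_of_isInvertible (CurvLib.isInvertible_structureModule (X := C))
  haveI := CurvLib.finite_HH (k := k) h1 0
  haveI := CurvLib.finite_HH (k := k) h2 0
  haveI := CurvLib.finite_HH (k := k) h3 0
  haveI : Module.Finite k (Coh.structureModule C ⟶ S.X₂) := Module.Finite.equiv (GenusOneSSLib.homEquiv (k := k) _).symm
  haveI : Module.Finite k (Coh.structureModule C ⟶ S.X₃) := Module.Finite.equiv (GenusOneSSLib.homEquiv (k := k) _).symm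
  have hh2 : (Module.finrank k (Coh.structureModule C ⟶ S.X₂) : ℤ) = g := by
    obtain ⟨hχ, hh0⟩ := structure_data hj
    have hd : Module.finrank k (Coh.HH C (Coh.structureModule C) 1) = Module.finrank k (Coh.HH C ω 0) := by
      rw [h1_eq_hom h OY hj hOY _ hO, GenusOneSSLib.finrank_hom]
    rw [GenusOneSSLib.finrank_hom, (CurvLib.hIso (k := k) e₂ 0).finrank_eq, ← hd]
    rw [euler_rib hj, hh0] at hχ
    push_cast at hχ
    omega
  have hh3 : (Module.finrank k (Coh.structureModule C ⟶ S.X₃) : ℤ) = g := by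
    rw [GenusOneSSLib.finrank_hom, hh_push hj e₃ 0, h0_twist k _ (by omega)]
    ring
  let R := Linear.rightComp k (Coh.structureModule C) S.g
  have hR : Function.Injective R := by
    rw [← LinearMap.ker_eq_bot, Submodule.eq_bot_iff]
    intro s hs
    haveI : Mono S.f := hS.mono_f
    let l := hS.exact.lift s hs
    have hl : l ≫ S.f = s := hS.exact.lift_f s hs
    haveI : Subsingleton (Coh.HH C S.X₁ 0) := (Module.finrank_zero_iff (R := k)).mp
      ((hh_push hj e₁ 0).trans (h0_twist_of_neg k _ (by omega)))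
    have hl0 : l = 0 := (GenusOneSSLib.homEquiv (k := k) S.X₁).injective (Subsingleton.elim _ _)
    rw [← hl, hl0, zero_comp]
  have hsurj : Function.Surjective R :=
    (LinearMap.injective_iff_surjective_of_finrank_eq_finrank (by omega)).1 hR
  obtain ⟨d, hd⟩ : ∃ d : ℕ, (g : ℤ) - 1 = (d : ℤ) := ⟨g - 1, by omega⟩
  have hgg : Curv2.IsGloballyGenerated S.X₃ :=
    MiscFlat6.isGloballyGenerated_of_iso e₃.symm (BlowRegLib.gg_push_closed j (hd ▸ gg_twist k d))
  obtain ⟨ι, p₀, hp⟩ := hgg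
  let p : NefH1Lib.freeM C ι ⟶ S.X₃ := p₀
  haveI : Epi p := hp
  choose l hl using fun i : ι => hsurj (Sigma.ι (fun _ : ι => Coh.structureModule C) i ≫ p)
  let p' : NefH1Lib.freeM C ι ⟶ S.X₂ := Sigma.desc l
  have hp' : p' ≫ S.g = p := Limits.Sigma.hom_ext _ _ fun i => by
    rw [← Category.assoc, Sigma.ι_desc]
    exact hl i
  haveI : Coh.IsQCoh S.X₂ := h2.1
  haveI : Coh.IsQCoh (NefH1Lib.freeM C ι) := by
    show Coh.IsQCoh (SheafOfModules.free ι : C.Modules)
    infer_instance
  haveI : Epi p' := CohCmpLib.epi_of_epi_pullbacks h2.2 p' fun x => by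
    obtain ⟨z, rfl⟩ := hj.surj x
    refine ⟨_, j, z, rfl, ?_⟩
    haveI : (Scheme.Modules.pullback j).IsLeftAdjoint := ⟨_, ⟨Scheme.Modules.pullbackPushforwardAdjunction j⟩⟩
    haveI : Epi ((Scheme.Modules.pullback j).map p) := inferInstance
    have : (Scheme.Modules.pullback j).map p' =
        (Scheme.Modules.pullback j).map p ≫ inv ((Scheme.Modules.pullback j).map S.g) := by
      rw [IsIso.eq_comp_inv, ← Functor.map_comp, hp']
    rw [this]
    exact epi_comp _ _
  exact MiscFlat6.isGloballyGenerated_of_iso e₂ ⟨ι, p', inferInstance⟩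

/-- Finiteness of the sections of a direct image. -/
theorem finite_h0_push {π : C ⟶ CohB1.ProjSpace 1 k}
    (hπ : π ≫ CohB1.ProjSpace.toSpec 1 k = C ↘ Spec (CommRingCat.of k))
    {L : C.Modules} (hL : Coh.IsCoh L) :
    Module.Finite k (Coh.HH (CohB1.ProjSpace 1 k) ((Coh.push π).obj L) 0) := by
  haveI := CurvLib.finite_HH (k := k) hL 0
  by_cases h0 : Module.finrank k (Coh.HH C L 0) = 0
  · haveI : Subsingleton (Coh.HH C L 0) := (Module.finrank_zero_iff (R := k)).mp h0
    let e' : Coh.HH C L 0 ≃+ Coh.HH (CohB1.ProjSpace 1 k) ((Coh.push π).obj L) 0 :=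
      ((DegPullLib.e0 L).trans (DegPullLib.e0 ((Coh.push π).obj L)).symm : _)
    haveI := e'.symm.toEquiv.subsingleton
    infer_instance
  · exact Module.finite_of_finrank_pos (by rw [← DegPullLib.finrank_H0_push k π hπ L]; omega)

theorem hMap_injective_of_mono {X : Scheme.{u}} [X.Over (Spec (CommRingCat.of k))] {T M : X.Modules} (η : T ⟶ M)
    [Mono η] : Function.Injective (CurvLib.hMap (k := k) η 0) :=
  CurvLib.injective₀ (k := k) (S := ShortComplex.mk η (cokernel.π η) (cokernel.condition η))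
    { exact := ShortComplex.exact_of_g_is_cokernel _ (cokernelIsCokernel η)
      mono_f := inferInstanceAs (Mono η)
      epi_g := inferInstanceAs (Epi (cokernel.π η)) }

/-- Monomorphisms bound global sections. -/
theorem h0_le_of_mono' {X : Scheme.{u}} [X.Over (Spec (CommRingCat.of k))] {T M : X.Modules} (η : T ⟶ M) [Mono η]
    [Module.Finite k (Coh.HH X M 0)] :
    Module.finrank k (Coh.HH X T 0) ≤ Module.finrank k (Coh.HH X M 0) :=
  LinearMap.finrank_le_finrank_of_injective (hMap_injective_of_mono η)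

/-- A monomorphism into a direct image bounds global sections. -/
theorem h0_le_of_mono {π : C ⟶ CohB1.ProjSpace 1 k}
    (hπ : π ≫ CohB1.ProjSpace.toSpec 1 k = C ↘ Spec (CommRingCat.of k)) {T : (CohB1.ProjSpace 1 k).Modules}
    {L : C.Modules} (hL : Coh.IsCoh L) (η : T ⟶ (Coh.push π).obj L) [Mono η] :
    Module.finrank k (Coh.HH (CohB1.ProjSpace 1 k) T 0) ≤ Module.finrank k (Coh.HH C L 0) := by
  haveI := finite_h0_push hπ hL
  have e := DegPullLib.finrank_H0_push k π hπ L
  rw [e]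
  exact h0_le_of_mono' η

/-- No maps to the direct image of a smaller twist. -/
theorem eq_zero_of_hom_push {L : C.Modules} {a b : ℤ}
    (eL : (Scheme.Modules.pullback j).obj L ≅ Twist.twistProjSpace 1 k a) (hab : b < a)
    {Z : C.Modules} (e : Z ≅ (Coh.push j).obj (Twist.twistProjSpace 1 k b)) (ψ : L ⟶ Z) : ψ = 0 := by
  have h0 : ψ ≫ e.hom = 0 := by
    refine ((Scheme.Modules.pullbackPushforwardAdjunction j).homEquiv _ _).symm.injective ?_
    exact (eq_zero_of_twist k eL (Iso.refl _) hab _).trans (eq_zero_of_twist k eL (Iso.refl _) hab _).symm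
  exact (cancel_mono e.hom).1 (h0.trans zero_comp.symm)

/-- A map whose restriction vanishes maps to zero in a direct image. -/
theorem comp_eq_zero_of_restrict {L M Z : C.Modules} {A : (CohB1.ProjSpace 1 k).Modules} (φ : L ⟶ M)
    (g' : M ⟶ Z) (e : Z ≅ (Coh.push j).obj A) (h0 : (Scheme.Modules.pullback j).map φ = 0) : φ ≫ g' = 0 := by
  haveI : (Scheme.Modules.pullback j).IsLeftAdjoint := ⟨_, ⟨Scheme.Modules.pullbackPushforwardAdjunction j⟩⟩
  have h1 : (Scheme.Modules.pullback j).map (φ ≫ g' ≫ e.hom) = 0 := by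
    rw [Functor.map_comp, h0, zero_comp]
  have h2 : φ ≫ g' ≫ e.hom = 0 := by
    refine ((Scheme.Modules.pullbackPushforwardAdjunction j).homEquiv _ _).symm.injective ?_
    rw [Adjunction.homEquiv_counit, Adjunction.homEquiv_counit, h1, zero_comp, Functor.map_zero, zero_comp]
  rw [← cancel_mono e.hom, Category.assoc, h2, zero_comp]

/-- A map of invertible modules which is an isomorphism on the line is one. -/
theorem isIso_of_restrict (hj : Rib j g) {L M : C.Modules} (hL : PicF.IsInvertible L) (hM : PicF.IsInvertible M)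
    (φ : L ⟶ M) [IsIso ((Scheme.Modules.pullback j).map φ)] : IsIso φ := by
  haveI := CurvLib.isNoetherian k (X := C)
  haveI : Coh.IsQCoh L := (CurvLib.isCoh_of_isInvertible hL).1
  haveI : Coh.IsQCoh M := (CurvLib.isCoh_of_isInvertible hM).1
  haveI : Epi φ := CohCmpLib.epi_of_epi_pullbacks (CurvLib.isCoh_of_isInvertible hM).2 φ fun x => by
    obtain ⟨z, rfl⟩ := hj.surj x
    exact ⟨_, j, z, rfl, inferInstance⟩
  exact CohCmpLib.isIso_of_epi_rank_one ((CohCmpLib.invertible_iff_rank_one _).1 hL)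
    ((CohCmpLib.invertible_iff_rank_one _).1 hM) φ

/-- The dualizing module of a split ribbon. -/
theorem dualizing_split (hj : Rib j g) (π : C ⟶ CohB1.ProjSpace 1 k) (hjπ : j ≫ π = 𝟙 _)
    (hπ : π ≫ CohB1.ProjSpace.toSpec 1 k = C ↘ Spec (CommRingCat.of k))
    (hOY : Nonempty (OY.obj ≅ DCoh.inD (Spec (CommRingCat.of k)) (Coh.structureModule (Spec (CommRingCat.of k)))))
    (hω : PicF.IsInvertible ω) (hg : 1 ≤ g) :
    Nonempty (ω ≅ (Scheme.Modules.pullback π).obj (Twist.twistProjSpace 1 k ((g : ℤ) - 1))) := by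
  haveI := hj.imm
  haveI := CurvLib.isNoetherian k (X := C)
  have hTi := PicPnLib.twist_inv 1 k ((g : ℤ) - 1)
  let F := Scheme.Modules.pullback π
  let eπ : F ⋙ Scheme.Modules.pullback j ≅ 𝟭 _ :=
    Scheme.Modules.pullbackComp j π ≪≫ Scheme.Modules.pullbackCongr hjπ ≪≫ Scheme.Modules.pullbackId _
  have eL : (Scheme.Modules.pullback j).obj ((Scheme.Modules.pullback π).obj (Twist.twistProjSpace 1 k ((g : ℤ) - 1))) ≅
      Twist.twistProjSpace 1 k ((g : ℤ) - 1) := eπ.app _
  haveI : F.Faithful := by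
    haveI : (F ⋙ Scheme.Modules.pullback j).Faithful := Functor.Faithful.of_iso eπ.symm
    exact Functor.Faithful.of_comp F (Scheme.Modules.pullback j)
  haveI hη : Mono ((Scheme.Modules.pullbackPushforwardAdjunction π).unit.app (Twist.twistProjSpace 1 k ((g : ℤ) - 1))) :=
    (Scheme.Modules.pullbackPushforwardAdjunction π).unit_mono_of_L_faithful _
  have hL : PicF.IsInvertible ((Scheme.Modules.pullback π).obj (Twist.twistProjSpace 1 k ((g : ℤ) - 1))) :=
    AmpleDevLib.isInvertible_pb π hTi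
  have hh := h0_le_of_mono (π := π) hπ (CurvLib.isCoh_of_isInvertible hL)
    ((Scheme.Modules.pullbackPushforwardAdjunction π).unit.app (Twist.twistProjSpace 1 k ((g : ℤ) - 1)))
  generalize (Scheme.Modules.pullback π).obj (Twist.twistProjSpace 1 k ((g : ℤ) - 1)) = L at eL hL hh ⊢
  have hLc := CurvLib.isCoh_of_isInvertible hL
  have hT := h0_twist k ((g : ℤ) - 1) (by omega)
  obtain ⟨eω⟩ := restrict_dualizing h OY hj hOY hω
  obtain ⟨S, hS, ⟨e₁⟩, ⟨e₂⟩, ⟨e₃⟩, -⟩ := exists_seq hj hω eω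
  obtain ⟨S', hS', ⟨f₁⟩, ⟨f₂⟩, ⟨f₃⟩, -⟩ := exists_seq hj hL eL
  have hχ : Curv2.euler k C L = (g : ℤ) - 1 := by
    rw [← CurvLib.euler_congr (k := k) f₂, CurvLib.euler_add_of_isCoh (k := k) hS'
      (QCohLib.isCoh_of_iso f₁.symm (isCoh_push hj _)) (QCohLib.isCoh_of_iso f₂.symm hLc)
      (QCohLib.isCoh_of_iso f₃.symm (isCoh_push hj _)),
      (Groth.Agent.S17660.push_data k C j hj.hov (Iso.refl _) f₁).2,
      (Groth.Agent.S17660.push_data k C j hj.hov (Iso.refl _) f₃).2]
    ring
  have hpos : 0 < Module.finrank k (L ⟶ S.X₂) := by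
    rw [(Linear.homCongr k (Iso.refl L) e₂).finrank_eq, ← h1_eq_hom h OY hj hOY L hLc]
    rw [euler_rib hj] at hχ
    have hh' : (Module.finrank k (Coh.HH (CohB1.ProjSpace 1 k) (Twist.twistProjSpace 1 k ((g : ℤ) - 1)) 0) : ℤ) ≤
        (Module.finrank k (Coh.HH C L 0) : ℤ) := by exact_mod_cast hh
    rw [hT] at hh'
    omega
  haveI : Nontrivial (L ⟶ S.X₂) := Module.nontrivial_of_finrank_pos hpos
  obtain ⟨φ, hφ⟩ := exists_ne (0 : L ⟶ S.X₂)
  haveI : Mono S.f := hS.mono_f
  have hres : (Scheme.Modules.pullback j).map φ ≠ 0 := by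
    intro h0
    have hg0 : φ ≫ S.g = 0 := comp_eq_zero_of_restrict φ S.g e₃ h0
    have hl : hS.exact.lift φ hg0 ≫ S.f = φ := hS.exact.lift_f φ hg0
    apply hφ
    rw [← hl, eq_zero_of_hom_push eL (by omega) e₁ (hS.exact.lift φ hg0), zero_comp]
  haveI := isIso_of_twist k eL ((Scheme.Modules.pullback j).mapIso e₂ ≪≫ eω) hres
  haveI := isIso_of_restrict hj hL (HilbPolyLib.isInvertible_of_iso e₂.symm hω) φ
  exact ⟨(asIso φ ≪≫ e₂).symm⟩

end RibbonDualLib
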